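import Groth.Agent.H18.AB
import Groth.Agent.Lib.Depth.CM
import Groth.Agent.Lib.JacCrit.FlatRegular
import Groth.Agent.Lib.Regular.Quotient
import Groth.Agent.Lib.Tor.TorOneKer
import Mathlib.Algebra.Homology.DerivedCategory.Ext.ExactSequences
import Mathlib.LinearAlgebra.Dimension.StrongRankCondition

/-!
# Modules of positive depth on a plane curve singularity

Over `R = S ⧸ (g)` with `S` regular local of dimension two, a finite module with a regular element in the
maximal ideal has a periodic resolution by a matrix factorization of `g`.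
-/

universe u

open CategoryTheory IsLocalRing Groth.Agent.Lib Groth.Agent.Lib.Regular.PD

namespace Groth.Agent.H84.Planar

section Factorization

variable {S : Type u} [CommRing S] [IsRegularLocalRing S] {g : S} {R : Type u} [CommRing R]
variable [IsLocalRing R] (π : S →+* R)
variable (M : Type u) [AddCommGroup M] [Module R M]

/-- The periodic resolution. -/
theorem exists_periodic (hS : ringKrullDim S = 2) (hg : g ≠ 0) (hπ : Function.Surjective π)
    (hker : RingHom.ker π = Ideal.span {g}) [Module.Finite R M] {x : R} (hx : x ∈ maximalIdeal R)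
    (hxM : IsSMulRegular M x) :
    ∃ (n : ℕ) (A B : (Fin n → R) →ₗ[R] (Fin n → R)) (p : (Fin n → R) →ₗ[R] M),
      Function.Surjective p ∧ Function.Exact A p ∧ Function.Exact B A ∧ Function.Exact A B := by
  rcases subsingleton_or_nontrivial M with hM | hM
  · exact ⟨0, 0, 0, 0, fun y => ⟨0, Subsingleton.elim _ _⟩, fun y => by simp [Subsingleton.elim y 0],
      fun y => by simp [Subsingleton.elim y 0], fun y => by simp [Subsingleton.elim y 0]⟩
  haveI : IsDomain S := Groth.Agent.Lib.Regular.Quotient.isDomain S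
  letI : Algebra S R := π.toAlgebra
  letI : Module S M := Module.compHom M π
  haveI : IsScalarTower S R M := IsScalarTower.of_algebraMap_smul fun _ _ => rfl
  haveI : Module.Finite S R := Module.Finite.of_surjective (Algebra.linearMap S R) hπ
  haveI : Module.Finite S M := Module.Finite.trans R M
  obtain ⟨s, rfl⟩ := hπ x
  have hs : s ∈ maximalIdeal S := (mem_maximalIdeal s).2 fun hu =>
    (mem_maximalIdeal _).1 hx (hu.map π)
  have hsM : IsSMulRegular M s := hxM
  -- projective dimension at most one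
  haveI := JacCrit.FlatRegular.isCohenMacaulayLocalRing S
  have hdS : LocCoh.depth S S = (2 : ℕ) := by
    have h := Depth.CM.ringKrullDim_eq_depth (R := S)
    rw [hS] at h
    exact (WithBot.coe_inj.1 h).symm
  obtain ⟨j, hj⟩ := ENat.ne_top_iff_exists.mp (Depth.Assoc.depth_ne_top (R := S) M)
  have hj1 : 1 ≤ j := by
    have h := Groth.Agent.H18.AB.one_le_depth_of_regular hs hsM
    rw [← hj] at h
    exact_mod_cast h
  obtain ⟨-, hiff⟩ := Groth.Agent.H18.AB.pdle_iff 2 S hdS M ⟨_, Regular.Serre.pdle_all M⟩ j hj.symm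
  have hpd : PDle S M 1 := (hiff 1).2 (by omega)
  obtain ⟨n, f, hf⟩ := exists_free_cover (R := S) M
  haveI hKp : Module.Projective S (LinearMap.ker f) := pdle_zero_iff.1 ((pdle_succ_iff hf 0).1 hpd)
  haveI : Module.Free S (LinearMap.ker f) := Module.free_of_flat_of_isLocalRing
  have hgf : ∀ v : Fin n → S, g • v ∈ LinearMap.ker f := fun v => by
    rw [LinearMap.mem_ker, map_smul]
    change π g • f v = 0
    rw [show π g = 0 from RingHom.mem_ker.1 (hker ▸ Ideal.mem_span_singleton_self g), zero_smul]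
  let G : (Fin n → S) →ₗ[S] LinearMap.ker f := (g • LinearMap.id).codRestrict _ hgf
  have hG : Function.Injective G := fun v w h => smul_right_injective _ hg (congrArg Subtype.val h)
  have hrk : Module.finrank S (LinearMap.ker f) = n := by
    refine le_antisymm ?_ ?_
    · simpa using LinearMap.finrank_le_finrank_of_injective (LinearMap.ker f).injective_subtype
    · simpa using LinearMap.finrank_le_finrank_of_injective hG
  let e : LinearMap.ker f ≃ₗ[S] (Fin n → S) :=
    LinearEquiv.ofFinrankEq _ _ (by simpa using hrk)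
  let A₀ : (Fin n → S) →ₗ[S] (Fin n → S) := (LinearMap.ker f).subtype ∘ₗ e.symm.toLinearMap
  let B₀ : (Fin n → S) →ₗ[S] (Fin n → S) := e.toLinearMap ∘ₗ G
  have hAinj : Function.Injective A₀ := (LinearMap.ker f).injective_subtype.comp e.symm.injective
  have hAB : ∀ v, A₀ (B₀ v) = g • v := fun v => by
    change (e.symm (e (G v)) : Fin n → S) = _
    rw [e.symm_apply_apply]
    rfl
  have hBA : ∀ v, B₀ (A₀ v) = g • v := fun v => hAinj (by rw [hAB, map_smul])
  have hBinj : Function.Injective B₀ := fun v w h => smul_right_injective _ hg (by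
    change g • v = g • w
    rw [← hAB, ← hAB, h])
  -- reduction
  let ρ : (Fin n → S) → (Fin n → R) := fun v i => π (v i)
  have hρ : Function.Surjective ρ := fun w =>
    ⟨fun i => (hπ (w i)).choose, funext fun i => (hπ (w i)).choose_spec⟩
  have hρker : ∀ v, ρ v = 0 → ∃ w, v = g • w := fun v hv => by
    have h : ∀ i, ∃ c, v i = g * c := fun i =>
      Ideal.mem_span_singleton.1 (hker ▸ RingHom.mem_ker.2 (congrFun hv i))
    exact ⟨fun i => (h i).choose, funext fun i => (h i).choose_spec⟩
  have hρg : ∀ w, ρ (g • w) = 0 := fun w => funext fun i => by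
    change π (g * w i) = 0
    rw [map_mul, show π g = 0 from RingHom.mem_ker.1 (hker ▸ Ideal.mem_span_singleton_self g), zero_mul]
  let red : ((Fin n → S) →ₗ[S] (Fin n → S)) → ((Fin n → R) →ₗ[R] (Fin n → R)) := fun T =>
    ((LinearMap.toMatrix' T).map π).mulVecLin
  have hred : ∀ T v, red T (ρ v) = ρ (T v) := fun T v => funext fun i => by
    change ((LinearMap.toMatrix' T).map π).mulVec (π ∘ v) i = π (T v i)
    rw [← RingHom.map_mulVec, LinearMap.toMatrix'_mulVec]
  let p : (Fin n → R) →ₗ[R] M := Fintype.linearCombination R fun i => f (Pi.single i 1)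
  have hp : ∀ v, p (ρ v) = f v := fun v => by
    conv_rhs => rw [pi_eq_sum_univ' v, map_sum]
    simp only [p, Fintype.linearCombination_apply, map_smul]
    rfl
  refine ⟨n, red A₀, red B₀, p, fun y => ?_, fun w => ?_, fun w => ?_, fun w => ?_⟩
  · obtain ⟨v, rfl⟩ := hf y
    exact ⟨ρ v, hp v⟩
  · obtain ⟨v, rfl⟩ := hρ w
    constructor
    · intro h
      rw [hp] at h
      refine ⟨ρ (e ⟨v, h⟩), ?_⟩
      rw [hred]
      exact congrArg ρ (congrArg Subtype.val (e.symm_apply_apply ⟨v, h⟩))
    · rintro ⟨u, hu⟩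
      obtain ⟨u, rfl⟩ := hρ u
      rw [← hu, hred, hp]
      exact (e.symm u).2
  · obtain ⟨v, rfl⟩ := hρ w
    constructor
    · intro h
      rw [hred] at h
      obtain ⟨c, hc⟩ := hρker _ h
      rw [← hAB] at hc
      exact ⟨ρ c, by rw [hred, hAinj hc]⟩
    · rintro ⟨u, hu⟩
      obtain ⟨u, rfl⟩ := hρ u
      rw [← hu, hred, hred, hAB, hρg]
  · obtain ⟨v, rfl⟩ := hρ w
    constructor
    · intro h
      rw [hred] at h
      obtain ⟨c, hc⟩ := hρker _ h
      rw [← hBA] at hc
      exact ⟨ρ c, by rw [hred, hBinj hc]⟩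
    · rintro ⟨u, hu⟩
      obtain ⟨u, rfl⟩ := hρ u
      rw [← hu, hred, hred, hBA, hρg]

end Factorization

section Vanishing

variable {R : Type u} [CommRing R] [IsLocalRing R]
variable {M N : Type u} [AddCommGroup M] [Module R M] [AddCommGroup N] [Module R N]

/-- No maps between torsion free modules with cofinite joint annihilator. -/
theorem hom_eq_zero {I J : Ideal R} {n : ℕ} (hIJ : maximalIdeal R ^ n ≤ I ⊔ J)
    (hI : I ≤ Module.annihilator R M) (hJ : J ≤ Module.annihilator R N) {y : R}
    (hy : y ∈ maximalIdeal R) (hyN : IsSMulRegular N y) (φ : M →ₗ[R] N) : φ = 0 := by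
  refine LinearMap.ext fun m => (hyN.pow n).right_eq_zero_of_smul ?_
  obtain ⟨i, hi, j, hj, hij⟩ := Submodule.mem_sup.1 (hIJ (Ideal.pow_mem_pow hy n))
  rw [← hij, add_smul, ← map_smul, Module.mem_annihilator.1 (hI hi) m, map_zero,
    Module.mem_annihilator.1 (hJ hj) (φ m), add_zero]

variable {n : ℕ} {A B : (Fin n → R) →ₗ[R] (Fin n → R)} {p : (Fin n → R) →ₗ[R] M}

/-- The kernel of the second map is the module itself. -/
noncomputable def kerEquiv (hp : Function.Surjective p) (h1 : Function.Exact A p)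
    (h2 : Function.Exact B A) (h3 : Function.Exact A B) : LinearMap.ker A ≃ₗ[R] M :=
  LinearEquiv.ofEq _ _ h2.linearMap_ker_eq ≪≫ₗ B.quotKerEquivRange.symm ≪≫ₗ
    Submodule.quotEquivOfEq _ _ (h3.linearMap_ker_eq.trans h1.linearMap_ker_eq.symm) ≪≫ₗ
    p.quotKerEquivOfSurjective hp

theorem ext_two_subsingleton (hp : Function.Surjective p) (h1 : Function.Exact A p)
    (h2 : Function.Exact B A) (h3 : Function.Exact A B) (h0 : ∀ φ : M →ₗ[R] N, φ = 0) :
    Subsingleton (Abelian.Ext (ModuleCat.of R M) (ModuleCat.of R N) 2) := by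
  let A' : (Fin n → R) →ₗ[R] LinearMap.ker p := A.codRestrict _ fun v =>
    LinearMap.mem_ker.2 (h1.apply_apply_eq_zero v)
  have hA' : Function.Surjective A' := fun z => by
    obtain ⟨v, hv⟩ := (h1 z.1).1 z.2
    exact ⟨v, Subtype.ext hv⟩
  have hkA : LinearMap.ker A' = LinearMap.ker A := LinearMap.ker_codRestrict _ _ _
  haveI hproj : Projective (ModuleCat.of R (Fin n → R)) :=
    (IsProjective.iff_projective (R := R) (Fin n → R)).mp inferInstance
  have hs1 := LinearMap.shortExact_shortComplexKer hp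
  have hs2 := LinearMap.shortExact_shortComplexKer hA'
  refine subsingleton_of_forall_eq 0 fun x => ?_
  obtain ⟨y, rfl⟩ := Abelian.Ext.contravariant_sequence_exact₃ hs1 _ x
    (Abelian.Ext.eq_zero_of_projective (P := ModuleCat.of R (Fin n → R)) (n := 1) _) (show 1 + 1 = 2 from rfl)
  obtain ⟨z, rfl⟩ := Abelian.Ext.contravariant_sequence_exact₃ hs2 _ y
    (Abelian.Ext.eq_zero_of_projective (P := ModuleCat.of R (Fin n → R)) (n := 0) _) (show 1 + 0 = 1 from rfl)
  obtain ⟨φ, rfl⟩ := (Abelian.Ext.mk₀_bijective _ _).2 z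
  let e : LinearMap.ker A' ≃ₗ[R] M := LinearEquiv.ofEq _ _ hkA ≪≫ₗ kerEquiv hp h1 h2 h3
  have hφ : φ = 0 := ModuleCat.hom_ext (LinearMap.ext fun v => by
    have h := LinearMap.congr_fun (h0 (φ.hom ∘ₗ e.symm.toLinearMap)) (e v)
    simpa using h)
  rw [hφ, Abelian.Ext.mk₀_zero, Abelian.Ext.comp_zero, Abelian.Ext.comp_zero]

open TensorProduct

theorem tor_one_isZero (hp : Function.Surjective p) (h1 : Function.Exact A p)
    (h2 : Function.Exact B A) (h3 : Function.Exact A B) (h0 : ∀ φ : N →ₗ[R] M, φ = 0) :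
    Limits.IsZero (((Tor (ModuleCat.{u} R) 1).obj (ModuleCat.of R M)).obj
      (ModuleCat.of R (Module.Dual R N))) := by
  obtain ⟨i⟩ := Tor.TorOneKer.torOne_iso_ker (K := ModuleCat.of R (LinearMap.ker p))
    (F := ModuleCat.of R (Fin n → R)) (M := ModuleCat.of R M) (ModuleCat.ofHom (LinearMap.ker p).subtype)
    (ModuleCat.ofHom p) (LinearMap.ker p).injective_subtype hp (LinearMap.exact_subtype_ker_map p)
    (ModuleCat.of R (Module.Dual R N))
  refine Limits.IsZero.of_iso ?_ i
  rw [ModuleCat.isZero_iff_subsingleton]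
  refine subsingleton_of_forall_eq 0 fun z => Subtype.ext ?_
  let A' : (Fin n → R) →ₗ[R] LinearMap.ker p := A.codRestrict _ fun v =>
    LinearMap.mem_ker.2 (h1.apply_apply_eq_zero v)
  have hA' : Function.Surjective A' := fun z => by
    obtain ⟨v, hv⟩ := (h1 z.1).1 z.2
    exact ⟨v, Subtype.ext hv⟩
  obtain ⟨w, hw⟩ := LinearMap.rTensor_surjective (Module.Dual R N) hA' z.1
  have hAw : LinearMap.rTensor (Module.Dual R N) A w = 0 := by
    have h := LinearMap.mem_ker.1 z.2
    rw [← hw] at h
    change LinearMap.rTensor (Module.Dual R N) (LinearMap.ker p).subtype _ = 0 at h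
    rw [← LinearMap.comp_apply, ← LinearMap.rTensor_comp] at h
    exact h
  let Φ : (Fin n → R) ⊗[R] Module.Dual R N →ₗ[R] (N →ₗ[R] (Fin n → R)) :=
    TensorProduct.lift (LinearMap.flip LinearMap.smulRightₗ)
  have hΦ : ∀ v φ t, Φ (v ⊗ₜ φ) t = φ t • v := fun v φ t => rfl
  have hnat : ∀ u t, Φ (LinearMap.rTensor (Module.Dual R N) A u) t = A (Φ u t) := fun u t => by
    induction u using TensorProduct.induction_on with
    | zero => simp
    | tmul v φ => rw [LinearMap.rTensor_tmul, hΦ, hΦ, map_smul]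
    | add a b ha hb => simp only [map_add, LinearMap.add_apply, ha, hb]
  have hinj : ∀ u, u = ∑ i, Pi.single i (1 : R) ⊗ₜ[R] (LinearMap.proj i ∘ₗ Φ u) := fun u => by
    induction u using TensorProduct.induction_on with
    | zero => simp
    | tmul v φ =>
      have h : ∀ i, LinearMap.proj i ∘ₗ Φ (v ⊗ₜ φ) = v i • φ := fun i =>
        LinearMap.ext fun t => by
          rw [LinearMap.comp_apply, LinearMap.proj_apply, hΦ, Pi.smul_apply, LinearMap.smul_apply,
            smul_eq_mul, smul_eq_mul, mul_comm]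
      simp only [h, ← TensorProduct.smul_tmul]
      rw [← TensorProduct.sum_tmul, ← pi_eq_sum_univ' v]
    | add a b ha hb =>
      conv_lhs => rw [ha, hb]
      simp only [map_add, LinearMap.comp_add, TensorProduct.tmul_add, Finset.sum_add_distrib]
  have hmem : ∀ t, Φ w t ∈ LinearMap.ker A := fun t => by
    rw [LinearMap.mem_ker, ← hnat, hAw, map_zero, LinearMap.zero_apply]
  have hzero : Φ w = 0 := LinearMap.ext fun t => by
    have h := LinearMap.congr_fun (h0 ((kerEquiv hp h1 h2 h3).toLinearMap ∘ₗ (Φ w).codRestrict _ hmem)) t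
    have h' : (Φ w).codRestrict _ hmem t = 0 := (kerEquiv hp h1 h2 h3).map_eq_zero_iff.1 h
    exact congrArg Subtype.val h'
  rw [← hw, hinj w, hzero]
  simp

end Vanishing

end Groth.Agent.H84.Planar
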